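import Mathlib.CategoryTheory.Monoidal.Cartesian.Grp
import Mathlib.CategoryTheory.Limits.IsLimit
import Mathlib.CategoryTheory.Limits.Preserves.Basic

/-!
The limit of a diagram of group objects is computed underneath as soon as the underlying limit exists.
-/

universe w v u

open CategoryTheory CategoryTheory.Limits MonoidalCategory CartesianMonoidalCategory
open scoped MonObj

set_option linter.style.haveILetI false

namespace Groth.Agent.PRed28

variable {C : Type u} [Category.{v} C] [CartesianMonoidalCategory C] {J : Type w} [Category J]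

/-- A limit cone of group objects is a limit cone of the underlying objects. -/
theorem nonempty_isLimit_forget_grp (D : J ⥤ Grp C) [HasLimit (D ⋙ Grp.forget C)] (c : Cone D) (hc : IsLimit c) :
    Nonempty (IsLimit ((Grp.forget C).mapCone c)) := by
  let F := D ⋙ Grp.forget C
  let L : C := limit F
  have hF : ∀ {i j : J} (φ : i ⟶ j), F.map φ = (D.map φ).hom.hom := fun _ => rfl
  let pi : ∀ i, L ⟶ (D.obj i).X := fun i => limit.π F i
  have hw : ∀ {i j : J} (φ : i ⟶ j), pi i ≫ (D.map φ).hom.hom = pi j := fun {i j} φ => limit.w F φ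
  let mulCone : Cone F :=
    { pt := L ⊗ L
      π := { app := fun i => (fst L L ≫ pi i) * (snd L L ≫ pi i)
             naturality := fun i j φ => by
               show 𝟙 _ ≫ _ = _ ≫ (D.map φ).hom.hom
               rw [Category.id_comp, MonObj.mul_comp, Category.assoc, Category.assoc, hw] } }
  let oneCone : Cone F :=
    { pt := 𝟙_ C
      π := { app := fun i => η[(D.obj i).X]
             naturality := fun i j φ => by
               show 𝟙 _ ≫ _ = _ ≫ (D.map φ).hom.hom
               rw [Category.id_comp, IsMonHom.one_hom] } }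
  let invCone : Cone F :=
    { pt := L
      π := { app := fun i => ((pi i)⁻¹ : L ⟶ (D.obj i).X)
             naturality := fun i j φ => by
               show 𝟙 _ ≫ _ = _ ≫ (D.map φ).hom.hom
               rw [Category.id_comp, GrpObj.inv_comp, hw] } }
  let m : L ⊗ L ⟶ L := limit.lift F mulCone
  let e : 𝟙_ C ⟶ L := limit.lift F oneCone
  let iv : L ⟶ L := limit.lift F invCone
  have hm : ∀ i, m ≫ pi i = (fst L L ≫ pi i) * (snd L L ≫ pi i) := fun i => limit.lift_π mulCone i
  have he : ∀ i, e ≫ pi i = η[(D.obj i).X] := fun i => limit.lift_π oneCone i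
  have hiv : ∀ i, iv ≫ pi i = (pi i)⁻¹ := fun i => limit.lift_π invCone i
  have hone : ∀ {Z : C} (f : Z ⟶ 𝟙_ C) (i : J), f ≫ e ≫ pi i = 1 := fun f i => by
    rw [he, MonObj.one_eq_one, MonObj.comp_one]
  letI grpL : GrpObj L :=
    { one := e
      mul := m
      one_mul := by
        refine limit.hom_ext fun i => ?_
        show (_ ≫ m) ≫ pi i = _ ≫ pi i
        rw [Category.assoc, hm, MonObj.comp_mul, whiskerRight_fst_assoc, whiskerRight_snd_assoc, hone,
          _root_.one_mul, leftUnitor_hom]
      mul_one := by
        refine limit.hom_ext fun i => ?_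
        show (_ ≫ m) ≫ pi i = _ ≫ pi i
        rw [Category.assoc, hm, MonObj.comp_mul, whiskerLeft_fst_assoc, whiskerLeft_snd_assoc, hone,
          _root_.mul_one, rightUnitor_hom]
      mul_assoc := by
        refine limit.hom_ext fun i => ?_
        show ((m ▷ L) ≫ m) ≫ pi i = (_ ≫ _ ≫ m) ≫ pi i
        simp only [Category.assoc, hm, MonObj.comp_mul, whiskerRight_fst_assoc, whiskerRight_snd_assoc,
          whiskerLeft_fst_assoc, whiskerLeft_snd_assoc, associator_hom_fst_assoc, associator_hom_snd_fst_assoc,
          associator_hom_snd_snd_assoc, _root_.mul_assoc]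
      inv := iv
      left_inv := by
        refine limit.hom_ext fun i => ?_
        show (_ ≫ m) ≫ pi i = (_ ≫ e) ≫ pi i
        simp only [Category.assoc, hm, MonObj.comp_mul, lift_fst_assoc, lift_snd_assoc, hiv, hone,
          Category.id_comp, inv_mul_cancel]
      right_inv := by
        refine limit.hom_ext fun i => ?_
        show (_ ≫ m) ≫ pi i = (_ ≫ e) ≫ pi i
        simp only [Category.assoc, hm, MonObj.comp_mul, lift_fst_assoc, lift_snd_assoc, hiv, hone,
          Category.id_comp, mul_inv_cancel] }
  haveI hpi : ∀ i, IsMonHom (pi i) := fun i =>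
    ⟨he i, by
      show m ≫ pi i = _
      rw [hm, Hom.mul_def, ← lift_map, lift_fst_snd, Category.id_comp]⟩
  let c' : Cone D :=
    { pt := Grp.mk L
      π := { app := fun i => Grp.homMk (A := Grp.mk L) (pi i)
             naturality := fun i j φ => Grp.hom_ext _ _ (by
               show 𝟙 _ ≫ pi j = pi i ≫ (D.map φ).hom.hom
               rw [Category.id_comp, hw]) } }
  have hc' : IsLimit c' :=
    { lift := fun s =>
        let l : s.pt.X ⟶ L := limit.lift F ((Grp.forget C).mapCone s)
        haveI : IsMonHom l := by
          have key : ∀ i, l ≫ pi i = (s.π.app i).hom.hom := fun i =>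
            limit.lift_π ((Grp.forget C).mapCone s) i
          constructor
          · refine limit.hom_ext fun i => ?_
            show (η[s.pt.X] ≫ l) ≫ pi i = e ≫ pi i
            rw [Category.assoc, key, he]
            exact IsMonHom.one_hom (s.π.app i).hom.hom
          · refine limit.hom_ext fun i => ?_
            show (μ[s.pt.X] ≫ l) ≫ pi i = ((l ⊗ₘ l) ≫ m) ≫ pi i
            rw [Category.assoc, key, Category.assoc, hm, MonObj.comp_mul, tensorHom_fst_assoc,
              tensorHom_snd_assoc, key, Hom.mul_def, ← lift_map, lift_fst_snd, Category.id_comp]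
            exact IsMonHom.mul_hom (s.π.app i).hom.hom
        Grp.homMk (A := s.pt) (B := Grp.mk L) l
      fac := fun s i => Grp.hom_ext _ _ (limit.lift_π ((Grp.forget C).mapCone s) i)
      uniq := fun s l hl => Grp.hom_ext _ _ (limit.hom_ext fun i =>
        (congrArg (fun f => f.hom.hom) (hl i)).trans (limit.lift_π ((Grp.forget C).mapCone s) i).symm) }
  exact ⟨IsLimit.ofIsoLimit (limit.isLimit F)
    (Cone.ext ((Grp.forget C).mapIso (hc'.conePointUniqueUpToIso hc)) (fun i =>
      (congrArg (fun f => f.hom.hom) (hc'.conePointUniqueUpToIso_hom_comp hc i)).symm))⟩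

end Groth.Agent.PRed28
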