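import Mathlib.AlgebraicGeometry.AffineTransitionLimit
import Mathlib.AlgebraicGeometry.Morphisms.Flat
import Mathlib.AlgebraicGeometry.Morphisms.Affine
import Mathlib.RingTheory.Flat.EquationalCriterion
import Mathlib.AlgebraicGeometry.Morphisms.FlatDescent

/-! A cofiltered limit of flat affine schemes over a base is flat and, if the stages are surjective, surjective. -/

set_option autoImplicit false
universe u

open AlgebraicGeometry CategoryTheory Limits TopologicalSpace

set_option linter.style.haveILetI false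
set_option linter.unusedSectionVars false

namespace Groth.Agent.PRed28

variable {I : Type u} [SmallCategory I] [IsCofiltered I] {D : I ⥤ Scheme.{u}} {c : Cone D}
  (hc : IsLimit c) {X : Scheme.{u}} (t : D ⟶ (Functor.const I).obj X)
include hc

theorem flat_base_of_isAffine [IsAffine X] [∀ j, IsAffine (D.obj j)] (i : I) (hf : ∀ j, Flat (t.app j)) :
    Flat (c.π.app i ≫ t.app i) := by
  classical
  haveI : ∀ {i j} (f : i ⟶ j), IsAffineHom (D.map f) := fun f => inferInstance
  haveI := isAffineHom_π_app D c hc i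
  haveI : IsAffine c.pt := isAffine_of_isAffineHom (c.π.app i)
  refine (HasRingHomProperty.iff_of_isAffine (P := @Flat) (X := c.pt) (Y := X) (f := c.π.app i ≫ t.app i)).mpr ?_
  letI : Algebra Γ(X, ⊤) Γ(c.pt, ⊤) := (c.π.app i ≫ t.app i).appTop.hom.toAlgebra
  show Module.Flat Γ(X, ⊤) Γ(c.pt, ⊤)
  rw [Module.Flat.iff_forall_isTrivialRelation]
  intro l f x hfx
  choose j τ hτ using fun a => exists_appTop_π_eq_of_isAffine_of_isLimit D c hc (x a)
  obtain ⟨k, hk⟩ := IsCofiltered.inf_objs_exists (insert i (Finset.univ.image j))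
  let φ : k ⟶ i := (hk (Finset.mem_insert_self i _)).some
  let p : ∀ a, k ⟶ j a := fun a =>
    (hk (Finset.mem_insert_of_mem (Finset.mem_image_of_mem j (Finset.mem_univ a)))).some
  let x' : Fin l → Γ(D.obj k, ⊤) := fun a => (D.map (p a)).appTop (τ a)
  have hπ : ∀ {a b : I} (q : a ⟶ b) (z : Γ(D.obj b, ⊤)),
      (c.π.app a).appTop ((D.map q).appTop z) = (c.π.app b).appTop z := fun {a b} q z => by
    rw [← c.w q]; rfl
  have ht : ∀ {a b : I} (q : a ⟶ b), D.map q ≫ t.app b = t.app a := fun {a b} q => by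
    have := t.naturality q
    exact (this.trans (Category.comp_id _)).trans rfl
  have hbase : ∀ (a : I) (r : Γ(X, ⊤)), (c.π.app i ≫ t.app i).appTop r = (c.π.app a).appTop ((t.app a).appTop r) := by
    intro a r
    obtain ⟨m, ma, mi, -⟩ := IsCofilteredOrEmpty.cone_objs a i
    have e : c.π.app i ≫ t.app i = c.π.app a ≫ t.app a := by
      rw [← c.w ma, ← c.w mi, Category.assoc, Category.assoc, ht, ht]
    rw [e]; rfl
  have hx' : ∀ a, (c.π.app k).appTop (x' a) = x a := fun a => (hπ (p a) (τ a)).trans (hτ a)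
  let s : Γ(D.obj k, ⊤) := ∑ a, (t.app k).appTop (f a) * x' a
  have hs : (c.π.app k).appTop s = 0 := by
    refine Eq.trans ?_ hfx
    refine (map_sum _ _ _).trans (Finset.sum_congr rfl fun a _ => ?_)
    rw [map_mul, hx', Algebra.smul_def, ← hbase k]
    rfl
  obtain ⟨m, q, hq⟩ := exists_appTop_map_eq_zero_of_isAffine_of_isLimit D c hc k s hs
  haveI := hf m
  have hflat : (t.app m).appTop.hom.Flat := HasRingHomProperty.appTop (P := @Flat) (X := D.obj m) (Y := X) (t.app m) inferInstance
  letI : Algebra Γ(X, ⊤) Γ(D.obj m, ⊤) := (t.app m).appTop.hom.toAlgebra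
  haveI : Module.Flat Γ(X, ⊤) Γ(D.obj m, ⊤) := hflat
  have hrel : ∑ a, f a • (D.map q).appTop (x' a) = 0 := by
    refine Eq.trans ?_ hq
    refine Eq.trans ?_ (map_sum _ _ _).symm
    refine Finset.sum_congr rfl fun a _ => ?_
    rw [map_mul, Algebra.smul_def]
    congr 1
    show (t.app m).appTop (f a) = _
    rw [← ht q]; rfl
  obtain ⟨N, A, y, hy, hA⟩ :=
    Module.Flat.isTrivialRelation_of_sum_smul_eq_zero (R := Γ(X, ⊤)) (M := Γ(D.obj m, ⊤)) hrel
  refine ⟨N, A, fun b => (c.π.app m).appTop (y b), fun a => ?_, hA⟩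
  rw [← hx' a, ← hπ q, show (D.map q).appTop (x' a) = _ from hy a]
  refine (map_sum _ _ _).trans (Finset.sum_congr rfl fun b _ => ?_)
  rw [Algebra.smul_def, map_mul, Algebra.smul_def]
  congr 1
  exact (hbase m (A a b)).symm

omit hc

attribute [local instance] IsCofiltered.isConnected

variable {X : Scheme.{u}} {T : I ⥤ Over X} {cT : Cone T}

/-- The structure maps of a diagram over `X`. -/
def strMap (T : I ⥤ Over X) : T ⋙ Over.forget X ⟶ (Functor.const I).obj X where
  app j := (T.obj j).hom
  naturality _ _ f := (Over.w (T.map f)).trans (Category.comp_id _).symm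

theorem isAffineHom_map (ha : ∀ j, IsAffineHom (T.obj j).hom) {i j : I} (f : i ⟶ j) :
    IsAffineHom (T.map f).left := by
  haveI := ha i
  haveI := ha j
  haveI : IsAffineHom ((T.map f).left ≫ (T.obj j).hom) := by rw [Over.w (T.map f)]; infer_instance
  exact IsAffineHom.of_comp (T.map f).left (T.obj j).hom

theorem isAffineHom_pt (hcT : IsLimit cT) (ha : ∀ j, IsAffineHom (T.obj j).hom) :
    IsAffineHom cT.pt.hom := by
  obtain ⟨i⟩ := IsCofiltered.nonempty (C := I)
  haveI : ∀ {a b : I} (f : a ⟶ b), IsAffineHom ((T ⋙ Over.forget X).map f) := fun f => isAffineHom_map ha f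
  have h : IsAffineHom ((cT.π.app i).left) :=
    isAffineHom_π_app (T ⋙ Over.forget X) ((Over.forget X).mapCone cT) (isLimitOfPreserves _ hcT) i
  haveI := ha i
  have e : (cT.π.app i).left ≫ (T.obj i).hom = cT.pt.hom := Over.w (cT.π.app i)
  rw [← e]
  exact @instIsAffineHomCompScheme _ _ _ _ _ h (ha i)

/-- A cofiltered limit of affine flat schemes over a base is flat. -/
theorem flat_pt (hcT : IsLimit cT) (ha : ∀ j, IsAffineHom (T.obj j).hom) (hf : ∀ j, Flat (T.obj j).hom) :
    Flat cT.pt.hom := by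
  haveI : IsZariskiLocalAtTarget (@Flat.{u} : MorphismProperty Scheme.{u}) :=
    HasRingHomProperty.instIsZariskiLocalAtTarget (P := @Flat.{u}) (Q := RingHom.Flat)
  refine IsZariskiLocalAtTarget.of_openCover X.affineCover fun a => ?_
  let g : X.affineCover.X a ⟶ X := X.affineCover.f a
  haveI : IsAffine (X.affineCover.X a) := inferInstanceAs (IsAffine (Spec _))
  let F := Over.pullback g
  let D' := (T ⋙ F) ⋙ Over.forget _
  haveI : ∀ j, IsAffine (D'.obj j) := fun j => by
    haveI := ha j
    exact (isAffine_of_isAffineHom (pullback.snd (T.obj j).hom g) : IsAffine (pullback (T.obj j).hom g))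
  obtain ⟨i⟩ := IsCofiltered.nonempty (C := I)
  have h := flat_base_of_isAffine (isLimitOfPreserves (Over.forget _) (isLimitOfPreserves F hcT))
    (strMap (T ⋙ F)) i fun j => by
      haveI := hf j
      exact inferInstanceAs (Flat (pullback.snd (T.obj j).hom g))
  have e : (((Over.forget _).mapCone (F.mapCone cT)).π.app i) ≫ (strMap (T ⋙ F)).app i =
      pullback.snd cT.pt.hom g := Over.w (F.map (cT.π.app i))
  rw [e] at h
  exact h

/-- A cofiltered limit of affine surjective schemes over a base is surjective. -/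
theorem surjective_pt (hcT : IsLimit cT) (ha : ∀ j, IsAffineHom (T.obj j).hom)
    (hs : ∀ j, Surjective (T.obj j).hom) : Surjective cT.pt.hom := by
  refine ⟨fun x => ?_⟩
  let g : Spec (X.residueField x) ⟶ X := X.fromSpecResidueField x
  let F := Over.pullback g
  let D' := (T ⋙ F) ⋙ Over.forget _
  haveI : ∀ j, IsAffine (D'.obj j) := fun j => by
    haveI := ha j
    exact (isAffine_of_isAffineHom (pullback.snd (T.obj j).hom g) : IsAffine (pullback (T.obj j).hom g))
  haveI : ∀ j, Nonempty (D'.obj j) := fun j => by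
    haveI := hs j
    obtain ⟨q, hq⟩ := (T.obj j).hom.surjective x
    obtain ⟨z, -⟩ := Scheme.Pullback.exists_preimage_pullback (f := (T.obj j).hom) (g := g) q
      (IsLocalRing.closedPoint _) (hq.trans (Scheme.fromSpecResidueField_apply x _).symm)
    exact ⟨z⟩
  haveI : ∀ {a b : I} (f : a ⟶ b), IsAffineHom (D'.map f) := fun f => inferInstance
  obtain ⟨z⟩ := Scheme.nonempty_of_isLimit D' _
    (isLimitOfPreserves (Over.forget _) (isLimitOfPreserves F hcT))
  let z' : (pullback cT.pt.hom g : Scheme.{u}) := z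
  refine ⟨pullback.fst cT.pt.hom g z', ?_⟩
  rw [← Scheme.Hom.comp_apply, pullback.condition, Scheme.Hom.comp_apply]
  exact Scheme.fromSpecResidueField_apply x _

end Groth.Agent.PRed28
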